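/-
Control theorems for the K-infinity subgroups.
-/
import Cfsg.Agent.Transfer.KInf2

set_option autoImplicit false

namespace CF.Transfer

open Subgroup Cfsg
open scoped commutatorElement

universe u

/-- `W` is one of the two K-infinity functors. -/
def IsKInf (W : ∀ (Q : Type u) [Group Q], Subgroup Q) : Prop :=
  W = @kInfLower ∨ W = @kInfUpper

theorem isKInf_lower : IsKInf.{u} kInfLower := Or.inl rfl

theorem isKInf_upper : IsKInf.{u} kInfUpper := Or.inr rfl

variable {G : Type u} [Group G] {p : ℕ} {W : ∀ (Q : Type u) [Group Q], Subgroup Q}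

theorem IsKInf.isCharPFunctor (h : IsKInf W) (p : ℕ) [Fact p.Prime] : IsCharPFunctor.{u} p W := by
  rcases h with rfl | rfl
  exacts [kInfLower_isCharPFunctor p, kInfUpper_isCharPFunctor p]

theorem IsKInf.center_le (h : IsKInf W) (P : Subgroup G) :
    P ⊓ centralizer (P : Set G) ≤ inducedFunctor W P := by
  rcases h with rfl | rfl
  · rw [ind_kInfLower]; exact center_le_kLo P
  · rw [ind_kInfUpper]; exact center_le_kUp P

variable [Finite G] [Fact p.Prime]

theorem IsKInf.centralizer_le (h : IsKInf W) {P : Subgroup G} (hP : IsPGroup p P) :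
    P ⊓ centralizer (inducedFunctor W P : Set G) ≤ inducedFunctor W P := by
  rcases h with rfl | rfl
  · rw [ind_kInfLower]; exact centralizer_kLo_le hP
  · rw [ind_kInfUpper]; exact centralizer_kUp_le hP

theorem IsKInf.exists_quartic (h : IsKInf W) (S : Sylow p G)
    (hK : ¬ (inducedFunctor W (S : Subgroup G)).Normal) :
    ∃ g ∈ (S : Subgroup G), g ∉ pCore p G ∧
      (∀ U V, IsChiefFactor U V → U ≤ pCore p G → iterCommutator U (zpowers g) 4 ≤ V) ∧
      ⁅⁅pCore p G ⊓ centralizer (pCore p G : Set G), zpowers g⁆, zpowers g⁆ = ⊥ ∧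
      (IsCharPGroup p G → ∃ U V, IsChiefFactor U V ∧ U ≤ pCore p G ∧
        ⁅⁅U, zpowers g⁆, zpowers g⁆ ≤ V ∧ ¬ ⁅U, zpowers g⁆ ≤ V) := by
  refine CF.Transfer.exists_quartic S ?_
  rcases h with rfl | rfl
  · exact Or.inl (ind_kInfLower (S : Subgroup G) ▸ hK)
  · exact Or.inr (ind_kInfUpper (S : Subgroup G) ▸ hK)

theorem IsKInf.engelHyp (h : IsKInf W) (hp : 5 ≤ p) : EngelHyp p W G := by
  intro _ T hT
  obtain ⟨g, h1, h2, h3, -⟩ := h.exists_quartic T hT
  refine ⟨g, h1, h2, fun U V hUV hU => ?_⟩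
  have := hUV.2.1
  exact (iterC_anti le_normalizer_of_normal (by omega)).trans (h3 U V hUV hU)

theorem IsKInf.controlsTransfer (h : IsKInf W) (hp : 5 ≤ p) :
    ControlsTransferIn p (inducedFunctor (G := G) W) ⊤ :=
  controlsTransfer_of_engel (h.isCharPFunctor p) fun _ _ _ => h.engelHyp hp

theorem IsKInf.inf_commutator_eq (h : IsKInf W) (hp : 5 ≤ p) (S : Sylow p G) :
    (S : Subgroup G) ⊓ commutator G = (S : Subgroup G) ⊓
      ⁅normalizer (inducedFunctor W (S : Subgroup G) : Set G),
        normalizer (inducedFunctor W (S : Subgroup G) : Set G)⁆ := by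
  have := fct_singleton_iff.1 ((controlsTransferIn_iff (ind_isConj (h.isCharPFunctor p))
    (isSylowIn_top S)).1 (h.controlsTransfer hp))
  rwa [top_inf_eq] at this

theorem two_le_sub_one (hp : p ≠ 2) : 2 ≤ p - 1 := by
  have := (Fact.out : p.Prime).two_le
  omega

theorem IsKInf.engelHyp' (h : IsKInf W) (hp : p ≠ 2) : EngelHyp' p W G := by
  intro hG T hT
  obtain ⟨g, h1, h2, -, -, h3⟩ := h.exists_quartic T hT
  obtain ⟨U, V, a1, a2, a3, a4⟩ := h3 hG
  have := a1.2.1
  exact ⟨g, h1, h2, U, V, a1, a2,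
    (iterC_anti le_normalizer_of_normal (two_le_sub_one hp)).trans a3, a4⟩

theorem IsKInf.hasNPC (h : IsKInf W) (hp : p ≠ 2) (S : Sylow p G)
    (hN : HasNormalPComplement p (normalizer (inducedFunctor W (S : Subgroup G) : Set G))) :
    HasNormalPComplement p G :=
  hasNPC_of_functor (h.isCharPFunctor p) (fun _ _ _ _ => (h.engelHyp' hp).npcHyp) S hN

theorem IsKInf.normal_of_stable (h : IsKInf W) (hG : IsCharPGroup p G)
    (hst : ∀ (N : Subgroup G) [N.Normal], IsNormalizerPStable p (G ⧸ N)) (S : Sylow p G) :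
    (inducedFunctor W (S : Subgroup G)).Normal := by
  by_contra hn
  obtain ⟨g, -, -, -, -, h3⟩ := h.exists_quartic S hn
  obtain ⟨U, V, a1, a2, a3, a4⟩ := h3 hG
  have := a1.2.2.1
  exact not_stable_quotient a1 (CF.Solv.pCore_isPGroup.to_le a2) a3 a4 (hst V)

theorem IsKInf.controlsStrongFusion (h : IsKInf W)
    (hst : ∀ (Y : Type u) [Group Y] [Finite Y], Involves Y G → IsNormalizerPStable p Y)
    (S : Sylow p G) : ControlsStrongFusion p (inducedFunctor W (S : Subgroup G)) :=
  controlsStrongFusion_of_normal_in_charP' (h.isCharPFunctor p) (fun _ _ _ hY hc T =>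
    h.normal_of_stable hc (fun N _ => hst _ (involves_trans (involves_quotient N) hY)) T) S

theorem IsKInf.exists_quadratic (h : IsKInf W) {H T : Subgroup G} (hT : IsSylowIn p T H)
    (hn : ¬ H ≤ normalizer (inducedFunctor W T : Set G)) :
    ∃ g : G, g ∈ T ∧ g ∉ pCoreOf p H ∧
      ⁅⁅pCoreOf p H ⊓ centralizer (pCoreOf p H : Set G), zpowers g⁆, zpowers g⁆ = ⊥ := by
  obtain ⟨g, h1, h2, -, h3, -⟩ := h.exists_quartic hT.toSylow (fun hc => hn (by
    have h1 := normalizer_eq_top_iff.2 hc
    change normalizer (inducedFunctor W (T.subgroupOf H) : Set H) = ⊤ at h1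
    rwa [normalizer_ind_subgroupOf (h.isCharPFunctor p) hT.isPGroup hT.le, subgroupOf_eq_top] at h1))
  refine ⟨g, h1, fun hc => h2 (CF.Loc.mem_pCore_iff.2 hc), ?_⟩
  rw [← map_eq_bot_iff_of_injective _ H.subtype_injective, map_commutator, map_commutator,
    map_center_eq H.subtype_injective, MonoidHom.map_zpowers] at h3
  exact h3

theorem IsKInf.controlsWeakClosure (h : IsKInf W) (hp : p ≠ 2) (H : Subgroup G) :
    ControlsWeakClosureOfElementsIn p (inducedFunctor (G := G) W) H := by
  refine weakClosure_of_engel (ind_isConj (h.isCharPFunctor p)) (fun P _ => h.center_le P)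
    (fun H T hT hn => ?_) H
  obtain ⟨g, h1, h2, h3⟩ := h.exists_quadratic hT hn
  refine ⟨g, h1, h2, fun U V hUV hU => ?_⟩
  have := hUV.2.1
  have h4 : H ≤ normalizer (U.map H.subtype : Set G) := by
    conv_lhs => rw [← range_subtype H, MonoidHom.range_eq_map]
    exact (map_le_normalizer_iff H.subtype_injective).2 le_normalizer_of_normal
  exact (iterC_anti ((zpowers_le.2 (hT.le h1)).trans h4) (two_le_sub_one hp)).trans
    ((iterC_mono hU le_rfl 2).trans (h3.le.trans bot_le))

theorem hasNPC_normalizer_of_selfCentralizing {G : Type*} [Group G] [Finite G] (S : Sylow p G)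
    {T : Subgroup G} (hTn : (S : Subgroup G) ≤ normalizer (T : Set G))
    (hC : (S : Subgroup G) ⊓ centralizer (T : Set G) ≤ T)
    (hN : ∀ g ∈ normalizer (T : Set G), (orderOf g).Coprime p → g ∈ centralizer (T : Set G)) :
    HasNormalPComplement p (normalizer (T : Set G)) := by
  have h1 := (isSylowIn_of_le S hTn).inf_of_normalized (centralizer_le_normalizer (T : Set G))
    (normalizer_le_normalizer_centralizer T)
  have h2 := h1.hasNPC_of_normalizer_le (inf_le_left.trans (CF.PLocal.centralizer_anti hC))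
  rw [hasNPC_subgroup_iff_coprime] at h2 ⊢
  rwa [← pRes_eq_of_le (pRes_le_iff.2 hN) (centralizer_le_normalizer _)]

theorem exists_normal_index_of_five_le (hp : 5 ≤ p) (S : Sylow p G) (hS : (S : Subgroup G) ≠ ⊥)
    (hN : ∀ g ∈ normalizer ((S : Subgroup G) : Set G), (orderOf g).Coprime p →
      g ∈ centralizer ((S : Subgroup G) : Set G)) : ∃ N : Subgroup G, N.Normal ∧ N.index = p :=
  exists_normal_index_of_inf_commutator_ne S (not_le_commutator_of_controlsTransfer
    (kInfLower_isCharPFunctor p) (fun _ _ _ _ => isKInf_lower.controlsTransfer hp) S hS hN)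

end CF.Transfer
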